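import Mathlib
import Cfsg.Agent.Core2.PDefs
import Cfsg.Agent.Core2.PCaseA
import Cfsg.Agent.Bender.LemX

/-! Theorem P, step [X] (guide 62_core2): port of Bender/LemX. -/

set_option autoImplicit false
set_option linter.unusedSectionVars false
set_option linter.unusedVariables false

namespace Cfsg.Agent.Core2

open MulAction Subgroup Cfsg.Agent.PLocal.Amb Cfsg.Agent.RankOne Cfsg.Agent.Suz Cfsg.Agent.Bender
open Cfsg.Agent.Bender.LemX (InvP isPGroup_closure_pair Ker_le_St2 SetStab relIndex_eq_of_fac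
  fac_of_relIndex_eq isSyl_of_fac isSyl_of_fac' pow_mul_inv_pow_mem isSolvable_of_comm_le
  invol_mul_conj odd_orderOf_of_pow)

variable {G Ω : Type*} [Group G] [Finite G] [MulAction G Ω] {D : Set G} {pt : G → Ω}

namespace PX

variable (Ω D pt) in
/-- A counterexample to statement [X]. -/
structure Viol (p : ℕ) (M : Subgroup G) : Prop where
  ne : M ≠ ⊤
  rk : Rk2 D M
  two : TwoPt D pt M
  ex : ∃ z ∈ D, z ∈ M ∧ InvP p z (Ker Ω (LM D M))

theorem le_normalizer_K (h : HypP Ω D pt) (M : Subgroup G) : M ≤ 𝐍[Ker Ω (LM D M)] :=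
  h.ps.le_normalizer_LM.trans normalizer_le_normalizer_Ker

theorem Viol.all (h : HypP Ω D pt) {p : ℕ} {M : Subgroup G} (hV : Viol Ω D pt p M) {z : G}
    (hz : z ∈ D) (hzM : z ∈ M) : InvP p z (Ker Ω (LM D M)) := by
  obtain ⟨w, hw, hwM, h1⟩ := hV.ex
  obtain ⟨m, hm, rfl⟩ := h.ps.exists_conj_LM hV.two hw hz hwM hzM
  have := h1.cj m
  rwa [cj_of_mem_normalizer (le_normalizer_Ker hm)] at this

theorem push_one (h : HypP Ω D pt) {p : ℕ} [hp : Fact p.Prime] (hp2 : p ≠ 2) {M R : Subgroup G}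
    (hV : Viol Ω D pt p M) {b c : Ω} (hb : b ∈ OM Ω (LM D M)) (hc : c ∈ OM Ω (LM D M))
    (hR : IsSyl p R (M ⊓ St2 G b c)) :
    Rk2 D 𝐍[centerThompsonAOf R] ∧ ∃ x ∈ D, x ∈ 𝐍[centerThompsonAOf R] ∧ pt x = b ∧
      InvP p x (𝐍[centerThompsonAOf R] ⊓ stabilizer G b) := by
  have hL := h.lse hV.ne hV.rk hV.two
  have hpure := h.good M hV.ne hV.two
  have : Fact (Nat.Prime 2) := ⟨Nat.prime_two⟩
  set K := Ker Ω (LM D M) with hKd
  set J := closure (IA (LM D M) b) with hJd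
  set E := R ⊔ K with hEd
  have hKodd : Odd (Nat.card K) := hL.odd_ker
  have hMK : M ≤ 𝐍[K] := le_normalizer_K h M
  have hKE : K ≤ E := le_sup_right
  have hE0 : E ≤ M ⊓ St2 G b c :=
    sup_le hR.le ((Ker_le_St2 hb hc).trans (inf_le_inf_right _ LM_le))
  have hEodd : Odd (Nat.card E) := by
    obtain ⟨n, hn⟩ := IsPGroup.iff_card.1 hR.pgrp
    refine Odd.of_dvd_nat (Odd.mul ?_ hKodd)
      (Grp.card_sup_dvd_of_le_normalizer ((hR.le.trans inf_le_left).trans hMK))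
    rw [hn]
    exact (hp.out.odd_of_ne_two hp2).pow
  have hRE : IsSyl p R E := hR.mono le_sup_left hE0
  have hJL : J ≤ LM D M := by rw [hJd, closure_le]; exact fun z hz => hz.1
  have hJM : J ≤ M ⊓ stabilizer G b := by
    rw [hJd, closure_le]; exact fun z hz => ⟨LM_le hz.1, hz.2.2⟩
  have hsq : ∀ x ∈ J, x * x ∈ K := fun x hx => hL.sq_mem b hx
  have hEJ : E ≤ 𝐍[J] := by
    rw [le_normalizer_iff_cj]
    intro g hg
    have hg := hE0 hg
    rw [hJd, MonoidHom.map_closure, closure_le]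
    rintro _ ⟨z, hz, rfl⟩
    refine subset_closure ⟨conj_mem_of_mem_normalizer (h.ps.le_normalizer_LM hg.1) hz.1,
      hz.2.1.conj g, ?_⟩
    change (g * z * g⁻¹) • b = b
    rw [mul_smul, mul_smul, show g⁻¹ • b = b from (stabilizer G b).inv_mem hg.2.1, hz.2.2]
    exact hg.2.1
  set M0 := J ⊔ E with hM0
  have hM0M : M0 ≤ M ⊓ stabilizer G b := sup_le hJM fun x hx => ⟨(hE0 hx).1, (hE0 hx).2.1⟩
  have hM0K : M0 ≤ 𝐍[K] := (hM0M.trans inf_le_left).trans hMK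
  have hJK : J ≤ 𝐍[K] := le_sup_left.trans hM0K
  have hsolJ : Group.IsSolvable J := by
    refine isSolvable_of_comm_le (K := K) ?_ (isSolvable_of_odd hKodd)
    rw [commutator_le]
    intro x hx y hy
    have : x * y * x⁻¹ * y⁻¹ = (x * x) * ((x⁻¹ * y) * (x⁻¹ * y)) * (y * y)⁻¹ := by group
    rw [commutatorElement_def, this]
    exact K.mul_mem (K.mul_mem (hsq x hx) (hsq _ (J.mul_mem (J.inv_mem hx) hy))) (K.inv_mem (hsq y hy))
  have hsol : Group.IsSolvable M0 := by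
    rw [hM0, sup_comm]
    exact Solv.Frob.isSolvable_sup_of_le_normalizer hEJ (isSolvable_of_odd hEodd) hsolJ
  have h2J : ∀ t ∈ M0, ∀ k : ℕ, t ^ 2 ^ k = 1 → t ∈ J := by
    intro t ht k hk
    obtain ⟨j, hj, e, he, hje⟩ := (mem_sup_of_le_normalizer_left hEJ).1 ht
    have h1 := pow_mul_inv_pow_mem (N := J) hj (hEJ he) (orderOf e)
    rw [pow_orderOf_eq_one, inv_one, mul_one, ← hje] at h1
    have hto : orderOf t ∣ 2 ^ k := orderOf_dvd_of_pow_eq_one hk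
    exact mem_of_pow_mem_of_coprime h1 (Nat.Coprime.of_dvd_left hto
      (Nat.Coprime.pow_left k (Nat.coprime_two_left.2 (Odd.of_dvd_nat hEodd (orderOf_dvd_natCard _ he)))))
  have hD0 : ∀ t ∈ M0, Invol t → t ∈ D := fun t ht h1 =>
    hpure t (hJL (h2J t ht 1 (by rw [pow_one, sq, h1.2]))) h1
  have hab : ∀ T : Subgroup G, T ≤ M0 → IsPGroup 2 T → IsMulCommutative T := by
    intro T hT h2
    refine Misc.isMulCommutative_iff'.2 (Misc.comm_of_sq fun t ht => ?_)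
    obtain ⟨k, hk⟩ := isPGroup_iff.1 h2 t ht
    rw [sq]
    exact eq_one_of_isPGroup_of_coprime h2 (T.mul_mem ht ht)
      (Nat.coprime_two_right.2 (Odd.of_dvd_nat hKodd
        (orderOf_dvd_natCard _ (hsq t (h2J t (hT ht) k hk)))))
  have hRM0 : IsSyl p R M0 := by
    refine isSyl_of_fac hRE le_sup_right le_sup_left (fun g hg => ?_) fun hd => ?_
    · obtain ⟨j, hj, e, he, rfl⟩ := (mem_sup_of_le_normalizer_left hEJ).1 hg
      exact ⟨j, hj, by simpa using he⟩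
    · have hn := normal_subgroupOf' hJK
      have h2 : IsPGroup 2 (J ⧸ K.subgroupOf J) := by
        intro q
        obtain ⟨x, rfl⟩ := QuotientGroup.mk_surjective q
        refine ⟨1, ?_⟩
        rw [pow_one, ← QuotientGroup.mk_pow, QuotientGroup.eq_one_iff, mem_subgroupOf, sq]
        exact hsq x x.2
      obtain ⟨n, hn⟩ := IsPGroup.iff_card.1 h2
      have h3 := hd.trans (relIndex_dvd_of_le_left J hKE)
      rw [relIndex, index, hn] at h3
      exact hp2 ((Nat.prime_dvd_prime_iff_eq hp.out Nat.prime_two).1 (hp.out.dvd_of_dvd_pow h3))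
  have hfac := zj_factor hp2 hsol hab hRM0
  set Y := Opp p M0 with hYd
  set N0 := M0 ⊓ 𝐍[centerThompsonAOf R] with hN0
  have hYM0 : Y ≤ M0 := Opp_le
  have hM0Y : M0 ≤ 𝐍[Y] := le_normalizer.trans normalizer_le_normalizer_Opp
  have hKM0 : K ≤ M0 := hKE.trans le_sup_right
  have hfac' : ∀ g ∈ M0, ∃ u ∈ Y, u⁻¹ * g ∈ N0 := by
    intro g hg
    obtain ⟨u, hu, n, hn, rfl⟩ := hfac g hg
    exact ⟨u, hu, by simpa using hn⟩
  have hYodd : Odd (Nat.card Y) := by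
    by_contra hodd
    obtain ⟨z, hzY, hz⟩ := Bender.exists_invol_of_even (Nat.not_odd_iff_even.1 hodd)
    obtain ⟨y, hy, h1, ⟨k, hk⟩, h2⟩ := hV.all h (hD0 z (hYM0 hzY) hz) (hM0M (hYM0 hzY)).1
    have h3 : y * y ∈ Y := by
      rw [← invol_mul_conj hz.2 h2]
      exact Y.mul_mem hzY (inv_conj_mem_of_mem_normalizer (hM0Y (hKM0 hy)) hzY)
    refine h1 (LemX.eq_one_of_odd_of_sq (odd_orderOf_of_pow hp2 hk) ?_)
    refine eq_one_of_isPGroup_of_coprime (isPGroup_zpowers ⟨k, hk⟩)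
      (mul_mem (mem_zpowers y) (mem_zpowers y)) ?_
    exact Nat.Coprime.of_dvd_left (orderOf_dvd_natCard _ h3) coprime_card_Opp
  obtain ⟨S, hS2⟩ := exists_isSyl 2 N0
  have hS2' : IsSyl 2 S M0 := isSyl_of_fac' hS2 inf_le_left hYM0 hfac' (Nat.coprime_two_right.2 hYodd)
  obtain ⟨x, hxD, hxM, hxb⟩ := (h.ps.mem_OM hpure).1 hb
  obtain ⟨x', hx'D, hx'M, hne, hcomm⟩ := h.ps.exists_four hV.rk hV.two hxD hxM
  have hx := h.ps.invol hxD
  have hx' := h.ps.invol hx'D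
  have hx'b : pt x' = b := (h.ps.pt_eq_of_commute hxD hx'D hcomm).symm.trans hxb
  have hA : closure ({x, x'} : Set G) ≤ M0 := by
    rw [closure_le]
    rintro w (rfl | rfl)
    · exact le_sup_left (b := E) (subset_closure ((h.ps.mem_IA hpure).2 ⟨hxD, hxM, hxb⟩))
    · exact le_sup_left (b := E) (subset_closure ((h.ps.mem_IA hpure).2 ⟨hx'D, hx'M, hx'b⟩))
  obtain ⟨g, hg, hgA⟩ := hS2'.exists_cj_le (isPGroup_closure_pair hx hx' hcomm) hA
  have hr : Rank2 N0 := by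
    refine (Rank2.cj (M := closure ({x, x'} : Set G)) ⟨x, subset_closure (by simp), x',
      subset_closure (by simp), hx, hx', Ne.symm hne, hcomm⟩ g).mono (hgA.trans hS2.le)
  obtain ⟨w, hwN, w', hw'N, hw, hw', hww, hwc⟩ := hr
  have hwM0 : w ∈ M0 := hwN.1
  have hwD := hD0 w hwM0 hw
  refine ⟨⟨w, hwD, w', hD0 w' hw'N.1 hw', hwN.2, hw'N.2, hww, hwc⟩,
    w, hwD, hwN.2, h.ps.eq_pt hwD (hM0M hwM0).2, ?_⟩
  have hXodd : Odd (Nat.card ↥(K ⊔ Y)) :=
    Odd.of_dvd_nat (hKodd.mul hYodd) (Grp.card_sup_dvd_of_le_normalizer (hKM0.trans hM0Y))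
  have hwX : w ∈ 𝐍[K ⊔ Y] := le_normalizer_sup hM0K hM0Y hwM0
  have hX'odd : Odd (Nat.card ↥(N0 ⊓ (K ⊔ Y))) := Odd.of_dvd_nat hXodd (card_dvd_of_le inf_le_right)
  have hwX' : zpowers w ≤ 𝐍[N0 ⊓ (K ⊔ Y)] :=
    le_normalizer_inf ((zpowers_le_of_mem hwN).trans le_normalizer) (zpowers_le_of_mem hwX)
  obtain ⟨T, hT, -, hwT⟩ := LemY.exists_inv_syl_ge (p := p) (U := ⊥) (LemY.isPGroup_zpowers_invol hw)
    hX'odd hwX' bot_le IsPGroup.of_bot (by rw [normalizer_eq_top]; exact le_top)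
  have hT' : IsSyl p T (K ⊔ Y) := by
    refine isSyl_of_fac' hT inf_le_right le_sup_right (fun g hg => ?_) coprime_card_Opp
    obtain ⟨u, hu, h1⟩ := hfac' g (sup_le hKM0 hYM0 hg)
    exact ⟨u, hu, h1, (K ⊔ Y).mul_mem ((K ⊔ Y).inv_mem (le_sup_right (a := K) hu)) hg⟩
  refine (((hV.all h hwD (hM0M hwM0).1).mono le_sup_left).syl hw hXodd hwX hT'
    (hwT (mem_zpowers w))).mono fun t ht => ?_
  have := (hT.le ht).1
  exact ⟨this.2, (hM0M this.1).2⟩

theorem push (h : HypP Ω D pt) {p : ℕ} [hp : Fact p.Prime] (hp2 : p ≠ 2) {M R : Subgroup G}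
    (hV : Viol Ω D pt p M) {b c : Ω} (hb : b ∈ OM Ω (LM D M)) (hc : c ∈ OM Ω (LM D M))
    (hbc : b ≠ c) (hR : IsSyl p R (M ⊓ St2 G b c)) :
    Viol Ω D pt p 𝐍[centerThompsonAOf R] ∧ b ∈ OM Ω (LM D 𝐍[centerThompsonAOf R]) ∧
      c ∈ OM Ω (LM D 𝐍[centerThompsonAOf R]) := by
  obtain ⟨hr, x, hxD, hxN, hxb, y, hy, h1, ⟨k, hk⟩, h2⟩ := push_one h hp2 hV hb hc hR
  obtain ⟨-, x', hx'D, hx'N, hx'c, -⟩ := push_one h hp2 hV hc hb (R := R) (by rwa [St2_comm])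
  have hR1 : R ≠ ⊥ := by
    intro e
    obtain ⟨z, -, -, w, hw, h3, ⟨l, hl⟩, -⟩ := hV.ex
    obtain ⟨g, -, hg⟩ := hR.exists_cj_le (isPGroup_zpowers ⟨l, hl⟩)
      ((zpowers_le_of_mem hw).trans ((Ker_le_St2 hb hc).trans (inf_le_inf_right _ LM_le)))
    rw [e, le_bot_iff, cj_eq_bot, zpowers_eq_bot] at hg
    exact h3 hg
  have hne : 𝐍[centerThompsonAOf R] ≠ ⊤ :=
    h.ne_top (ZJ_ne_bot hR.pgrp hR1) (a := b) (fun w hw => (hR.le (ZJ_le R hw)).2.1) le_rfl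
  have htwo : TwoPt D pt 𝐍[centerThompsonAOf R] :=
    ⟨x, hxD, x', hx'D, hxN, hx'N, by rwa [hxb, hx'c]⟩
  have hodd := odd_orderOf_of_pow hp2 hk
  have hyL : y ∈ LM D 𝐍[centerThompsonAOf R] := by
    refine mem_of_sq_mem hodd ?_
    rw [← invol_mul_conj (h.ps.sq hxD) h2]
    exact mul_mem (mem_LM hxD hxN)
      (inv_conj_mem_of_mem_normalizer (h.ps.le_normalizer_LM hy.1) (mem_LM hxD hxN))
  exact ⟨⟨hne, hr, htwo, x, hxD, hxN, y, (h.lse hne hr htwo).mem_Ker_of_inverted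
    ((h.ps.mem_IA (h.good _ hne htwo)).2 ⟨hxD, hxN, hxb⟩) hyL hy.2 hodd h2, h1, ⟨k, hk⟩, h2⟩,
    hxb ▸ h.ps.pt_mem_OM hxD hxN, hx'c ▸ h.ps.pt_mem_OM hx'D hx'N⟩

theorem exists_fac (h : HypP Ω D pt) {p : ℕ} [hp : Fact p.Prime] (hp2 : p ≠ 2) {M₀ : Subgroup G}
    (hV₀ : Viol Ω D pt p M₀) :
    ∃ (M X : Subgroup G) (b c : Ω), Viol Ω D pt p M ∧ b ∈ OM Ω (LM D M) ∧ c ∈ OM Ω (LM D M) ∧
      b ≠ c ∧ Opp 2 (St2 G b c) ≤ X ∧ X ≤ St2 G b c ∧ Odd (Nat.card X) ∧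
      ∀ g ∈ X, ∃ u ∈ Opp p X, ∃ n ∈ X ⊓ M, g = u * n := by
  obtain ⟨b₀, hb₀, c₀, hc₀, hbc₀⟩ := (h.lse hV₀.ne hV₀.rk hV₀.two).exists_OM
  obtain ⟨R₀, hR₀⟩ := exists_isSyl p (M₀ ⊓ St2 G b₀ c₀)
  obtain ⟨R, ⟨M, b, c, hV, hb, hc, hbc, hR⟩, hmax⟩ := Set.exists_max_image
    {R : Subgroup G | ∃ (M : Subgroup G) (b c : Ω), Viol Ω D pt p M ∧ b ∈ OM Ω (LM D M) ∧
      c ∈ OM Ω (LM D M) ∧ b ≠ c ∧ IsSyl p R (M ⊓ St2 G b c)} (fun R => Nat.card R) (Set.toFinite _)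
    ⟨R₀, M₀, b₀, c₀, hV₀, hb₀, hc₀, hbc₀, hR₀⟩
  obtain ⟨hV', hb', hc'⟩ := push h hp2 hV hb hc hbc hR
  obtain ⟨R₁, hR₁⟩ := exists_isSyl p (𝐍[centerThompsonAOf R] ⊓ St2 G b c)
  have hRD : R ≤ St2 G b c := hR.le.trans inf_le_right
  have h1 : IsSyl p R (𝐍[centerThompsonAOf R] ⊓ St2 G b c) :=
    hR₁.of_card_ge hR.pgrp (le_inf (le_normalizer.trans (normalizer_le_normalizer_ZJ R)) hRD)
      (hmax R₁ ⟨_, b, c, hV', hb', hc', hbc, hR₁⟩)
  have h2 : IsSyl p R (St2 G b c) :=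
    isSyl_of_isSyl_normalizer (h1.mono (le_inf hRD le_normalizer)
      (le_inf (inf_le_right.trans (normalizer_le_normalizer_ZJ R)) inf_le_left))
  have hX : R ⊔ Opp 2 (St2 G b c) ≤ St2 G b c := sup_le hRD Opp_le
  have hodd : Odd (Nat.card ↥(R ⊔ Opp 2 (St2 G b c))) := by
    obtain ⟨n, hn⟩ := IsPGroup.iff_card.1 hR.pgrp
    refine Odd.of_dvd_nat (Odd.mul ?_ (odd_card_Opp _)) (Grp.card_sup_dvd_of_le_normalizer
      (hRD.trans (le_normalizer.trans normalizer_le_normalizer_Opp)))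
    rw [hn]
    exact (hp.out.odd_of_ne_two hp2).pow
  refine ⟨_, _, b, c, hV', hb', hc', hbc, le_sup_right, hX, hodd,
    zj_factor hp2 (isSolvable_of_odd hodd) (fun T hT h2 => ?_) (h2.mono le_sup_left hX)⟩
  have : Fact (Nat.Prime 2) := ⟨Nat.prime_two⟩
  refine Misc.isMulCommutative_iff'.2 (Misc.comm_of_sq fun t ht => ?_)
  rw [eq_one_of_isPGroup_of_coprime h2 ht
    (Nat.coprime_two_right.2 (Odd.of_dvd_nat hodd (orderOf_dvd_natCard _ (hT ht)))), one_pow]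

theorem final (h : HypP Ω D pt) {p : ℕ} [hp : Fact p.Prime] (hp2 : p ≠ 2) {M X : Subgroup G}
    {b c : Ω} (hV : Viol Ω D pt p M) (hb : b ∈ OM Ω (LM D M)) (hc : c ∈ OM Ω (LM D M)) (hbc : b ≠ c)
    (hX1 : Opp 2 (St2 G b c) ≤ X) (hX2 : X ≤ St2 G b c) (hXodd : Odd (Nat.card X))
    (hfac : ∀ g ∈ X, ∃ u ∈ Opp p X, ∃ n ∈ X ⊓ M, g = u * n) : False := by
  have hL := h.lse hV.ne hV.rk hV.two
  have hpure := h.good M hV.ne hV.two
  obtain ⟨db, hdb, hdbM, rfl⟩ := (h.ps.mem_OM hpure).1 hb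
  obtain ⟨dc, hdc, hdcM, rfl⟩ := (h.ps.mem_OM hpure).1 hc
  obtain ⟨z, hzD, hzM, hzb, -⟩ := h.ps.exists_swap_mem hdb hdc hdbM hdcM hbc
  set b := pt db with hbd
  set c := pt dc with hcd
  have hzc : z • c = b := h.ps.swap hzD hzb
  have hz := h.ps.invol hzD
  set a := pt z with had
  have hza : z • a = a := h.ps.smul_pt hzD
  have ha : a ∈ OM Ω (LM D M) := h.ps.pt_mem_OM hzD hzM
  have hab : a ≠ b := fun e => hbc (by rw [← hzb, ← e, hza])
  have hac : a ≠ c := fun e => hbc (by rw [← hzc, ← e, hza])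
  obtain ⟨z2, hz2D, hz2M, hne, hcomm⟩ := h.ps.exists_four hV.rk hV.two hzD hzM
  have hz2 := h.ps.invol hz2D
  have hz2a : z2 • a = a := h.ps.smul_pt_of_commute hzD hcomm.symm
  set A := closure ({z, z2} : Set G) with hAd
  have hA := Misc.isKleinFour_closure_pair hz.2 hz2.2 hcomm hz.1 hz2.1 (Ne.symm hne)
  have hsq := Misc.sq_eq_one_of_mem_closure_pair hz.2 hz2.2 hcomm
  have hAc := Misc.comm_of_sq hsq
  have : IsMulCommutative A := Misc.isMulCommutative_iff'.2 hAc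
  have hzA : z ∈ A := subset_closure (by simp)
  have hAM : A ≤ LM D M ⊓ stabilizer G a := by
    rw [hAd, closure_le]; rintro w (rfl | rfl)
    exacts [⟨mem_LM hzD hzM, hza⟩, ⟨mem_LM hz2D hz2M, hz2a⟩]
  have hKodd := hL.odd_ker
  have hAK : A ≤ 𝐍[Ker Ω (LM D M)] := (hAM.trans inf_le_left).trans le_normalizer_Ker
  obtain ⟨P, hP, -, hAP⟩ := LemY.exists_inv_syl_ge (p := p) (U := ⊥)
    (isPGroup_closure_pair hz hz2 hcomm) hKodd hAK bot_le IsPGroup.of_bot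
    (by rw [normalizer_eq_top]; exact le_top)
  have hPodd : Odd (Nat.card P) := Odd.of_dvd_nat hKodd (card_dvd_of_le hP.le)
  have hnot : ¬ P ≤ C z := by
    intro hle
    obtain ⟨y, hy, h1, ⟨k, hk⟩, h2⟩ := (hV.all h hzD hzM).syl hz hKodd (hAK hzA) hP (hAP hzA)
    exact h1 (LemY.eq_one_of_inverted_commute (odd_orderOf_of_pow hp2 hk) h2
      (mem_centralizer_singleton_iff.1 (hle hy)).symm)
  obtain ⟨u, huA, hu1, hu⟩ : ∃ u ∈ A, u ≠ 1 ∧ ¬ P ⊓ C u ≤ C z := by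
    by_contra hcon
    push Not at hcon
    refine hnot (Solv.le_of_centralizers_le A P IsKleinFour.not_isCyclic hAP ?_ (C z) hcon)
    rw [hA.card_four]
    exact (Nat.Coprime.pow_left 2 (Nat.coprime_two_left.2 hPodd))
  have hu2 : Invol u := ⟨hu1, by simpa [sq] using hsq u huA⟩
  have huD : u ∈ D := hpure u (hAM huA).1 hu2
  have hua : pt u = a := h.ps.eq_pt huD (hAM huA).2
  obtain ⟨v, hv, hvz⟩ := SetLike.not_le_iff_exists.1 hu
  have hzV : z ∈ 𝐍[P ⊓ C u] :=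
    le_normalizer_inf hAP (le_trans (b := C u)
      (fun w hw => mem_centralizer_singleton_iff.2 (hAc w hw u huA)) le_normalizer) hzA
  obtain ⟨v', -, hv', y, hy, rfl⟩ := exists_cent_mul_inverted hz.2
    (Odd.of_dvd_nat hPodd (card_dvd_of_le (inf_le_left : P ⊓ C u ≤ P)))
    (fun x hx => conj_mem_of_mem_normalizer hzV hx) hv
  have hy1 : y ≠ 1 := fun e => hvz (by rw [e, mul_one]; exact mem_centralizer_singleton_iff.2 hv')
  have hyK : y ∈ Ker Ω (LM D M) := hP.le hy.1.1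
  have hyu : y * u = u * y := mem_centralizer_singleton_iff.1 hy.1.2
  have hinv : z * y * z⁻¹ = y⁻¹ := hy.2
  have hya : y • a = a := hyK.2 a ha
  obtain ⟨k, hk⟩ := isPGroup_iff.1 hP.pgrp y hy.1.1
  have hyodd := odd_orderOf_of_pow hp2 hk
  have hCy : C y ≤ stabilizer G a := by
    intro g hg
    have hg' : g * y = y * g := mem_centralizer_singleton_iff.1 hg
    by_contra hga
    refine hy1 (h.pss.not_commute_of_inverted (a := g • a) hzD (h.ps.smul_ne hzD hga)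
      (by rw [← mul_smul, ← hg', mul_smul, hya]) hyodd hinv (h.ps.conj u huD g)
      (by rw [h.ps.pt_conj huD, hua]) ?_)
    calc y * (g * u * g⁻¹) = (y * g) * u * g⁻¹ := by group
      _ = g * (u * y) * g⁻¹ := by rw [← hg', ← hyu]; group
      _ = g * u * g⁻¹ * (g * y) * g⁻¹ := by group
      _ = g * u * g⁻¹ * y := by rw [hg']; group
  have hzsw : z ∈ sw D b c := ⟨hzD, hzb⟩
  have hzX : z ∈ 𝐍[X] := by
    refine mem_normalizer_of_cj_le (cj_le_iff_forall.2 fun g hg => ?_)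
    have := X.mul_mem (hX1 (h.pss.comm_mem_Opp hbc hzsw (hX2 hg))) hg
    rwa [inv_mul_cancel_right] at this
  have hyX : y ∈ X := by
    refine mem_of_sq_mem hyodd ?_
    have := X.inv_mem (hX1 (h.pss.comm_mem_Opp hbc hzsw (g := y) ⟨hyK.2 b hb, hyK.2 c hc⟩))
    rwa [hinv, mul_inv_rev, inv_inv] at this
  have hU : Opp p X ≤ stabilizer G a := by
    refine le_of_minus_one (W := zpowers y) hz.2 (Odd.of_dvd_nat hXodd (card_dvd_of_le Opp_le))
      coprime_card_Opp hp2 (isPGroup_zpowers ⟨k, hk⟩)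
      (zpowers_le_of_mem (normalizer_le_normalizer_Opp (le_normalizer hyX)))
      (normalizer_le_normalizer_Opp hzX)
      (Inv.mem_normalizer_zpowers_of_conj_eq_inv hinv)
      (zpowers_le_of_mem (subset_closure ⟨mem_zpowers y, hinv⟩)) (zpowers_le_of_mem hya) hza ?_ ?_
    · rw [centralizer_zpowers]; exact inf_le_right.trans hCy
    · exact fun g hg => h.ps.smul_pt_of_commute hzD (mem_centralizer_singleton_iff.1 hg.2)
  have e1 : (stabilizer G a).relIndex (St2 G b c) = (stabilizer G a).relIndex (St2 G b c ⊓ M) := by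
    refine relIndex_eq_of_fac inf_le_left fun g hg => ?_
    obtain ⟨x, hx, hxc⟩ := h.pss.exists_Opp_mul hbc hzsw hg
    obtain ⟨u, hu, n, hn, e⟩ := hfac x⁻¹ (inv_mem (hX1 hx))
    refine ⟨n⁻¹, inv_mem ⟨hX2 hn.1, hn.2⟩, ?_⟩
    rw [inv_inv, show n * g = u⁻¹ * (x⁻¹ * g) by rw [e]; group]
    exact mul_mem (inv_mem (hU hu)) (h.ps.smul_pt_of_commute hzD hxc)
  have e2 : (stabilizer G c).relIndex (St2 G a b) = (stabilizer G a).relIndex (St2 G b c) := by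
    have h1 := Grp.card_inf_mul_relIndex' (stabilizer G c) (St2 G a b)
    have h2 := Grp.card_inf_mul_relIndex' (stabilizer G a) (St2 G b c)
    have h3 : stabilizer G c ⊓ St2 G a b = stabilizer G a ⊓ St2 G b c := by
      ext x; simp only [mem_inf]; tauto
    rw [h3, h.pss.triangle hzD (Ne.symm hab), hzb, ← h2] at h1
    exact Nat.eq_of_mul_eq_mul_left Nat.card_pos h1
  have e3 : (stabilizer G c).relIndex (St2 G a b ⊓ M) = (stabilizer G a).relIndex (St2 G b c ⊓ M) := by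
    have h1 := Grp.card_inf_mul_relIndex' (stabilizer G c) (St2 G a b ⊓ M)
    have h2 := Grp.card_inf_mul_relIndex' (stabilizer G a) (St2 G b c ⊓ M)
    have h3 : stabilizer G c ⊓ (St2 G a b ⊓ M) = stabilizer G a ⊓ (St2 G b c ⊓ M) := by
      ext x; simp only [mem_inf]; tauto
    obtain ⟨m, hm, h4, h5⟩ := hL.two_trans ha hb hb hc hab hbc
    have h6 := card_cj m (St2 G a b ⊓ M)
    rw [cj_inf, cj_St2, cj_of_mem (LM_le hm), h4, h5] at h6
    rw [h3, ← h6, ← h2] at h1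
    exact Nat.eq_of_mul_eq_mul_left Nat.card_pos h1
  have hfac2 := fac_of_relIndex_eq (S := stabilizer G c) (inf_le_left : St2 G a b ⊓ M ≤ St2 G a b)
    (by rw [e2, e3, e1])
  have hsb : ∀ s ∈ D, pt s = a → s • b ∈ OM Ω (LM D M) := by
    intro s hs hsa
    obtain ⟨d, -, h1, h2, rfl⟩ := h.pss.exists_conj_fix (M := ⊤) hzD hs hdb trivial trivial trivial
      hsa (Ne.symm hab)
    obtain ⟨x, hx, h3⟩ := hfac2 d ⟨h1, h2⟩
    rw [mem_stabilizer_iff, mul_smul, inv_smul_eq_iff] at h3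
    rw [mul_smul, mul_smul, show d⁻¹ • b = b by rw [inv_smul_eq_iff]; exact h2.symm, hzb, h3]
    exact smul_mem_OM hc (h.ps.le_normalizer_LM hx.2)
  have hse : ∀ s ∈ D, pt s = a → ∀ e ∈ OM Ω (LM D M), s • e ∈ OM Ω (LM D M) := by
    intro s hs hsa e he
    by_cases hea : e = a
    · rw [hea, ← hsa, h.ps.smul_pt hs, hsa]; exact ha
    · obtain ⟨m, hm, h1, rfl⟩ := hL.two_trans ha hb ha he hab (Ne.symm hea)
      have h3 := smul_mem_OM' (hsb _ (h.ps.conj s hs m⁻¹) (by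
        rw [h.ps.pt_conj hs, hsa, inv_smul_eq_iff, h1])) hm
      rwa [inv_inv, mul_smul, mul_smul, smul_inv_smul] at h3
  have hML : M ≤ SetStab Ω (LM D M) := fun m hm e =>
    ⟨fun he => smul_mem_OM he (h.ps.le_normalizer_LM hm), fun he => by
      simpa using smul_mem_OM he (h.ps.le_normalizer_LM (M.inv_mem hm))⟩
  have hL' : SetStab Ω (LM D M) ≠ ⊤ := by
    intro e
    refine hy1 (h.faithful fun d => hyK.2 d ?_)
    obtain ⟨g, -, rfl⟩ := h.pss.exists_swap a d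
    exact ((show g ∈ SetStab Ω (LM D M) from e ▸ mem_top g) a).1 ha
  refine h.not_le_proper hL' (hV.two.mono hML) a fun s hs hsa e => ⟨hse s hs hsa e, fun he => ?_⟩
  have := hse s hs hsa _ he
  rwa [h.ps.smul_smul hs] at this

end PX

/-- [X]: in a proper subgroup `M` with two points and a commuting pair, the involutions of
`L_M = ⟨D ∩ M⟩` centralise the kernel `O(L_M)` of the action on the points of `L_M`. -/
theorem HypP.centKer (h : HypP Ω D pt) {M : Subgroup G} (hM : M ≠ ⊤) (hr : Rk2 D M)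
    (h2 : TwoPt D pt M) : ∀ z ∈ LM D M, Invol z → ∀ y ∈ Ker Ω (LM D M), z * y = y * z := by
  intro z hzM hz y hy
  by_contra hne
  have hKodd := (h.lse hM hr h2).odd_ker
  obtain ⟨c, -, hc, i, hi, rfl⟩ := exists_cent_mul_inverted hz.2 hKodd
    (fun x hx => conj_mem_of_mem_normalizer (le_normalizer_Ker hzM) hx) hy
  have hi1 : i ≠ 1 := fun e => hne (by rw [e, mul_one, hc])
  obtain ⟨n, hn⟩ := exists_pow_prime_order hi1
  have : Fact (orderOf (i ^ n)).Prime := ⟨hn⟩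
  have hin : i ^ n ∈ Ker Ω (LM D M) := pow_mem hi.1 n
  have hp2 : orderOf (i ^ n) ≠ 2 := fun e => by
    have := Odd.of_dvd_nat hKodd (orderOf_dvd_natCard _ hin)
    rw [e] at this
    exact absurd this (by decide)
  have hV : PX.Viol Ω D pt (orderOf (i ^ n)) M :=
    ⟨hM, hr, h2, z, h.good M hM h2 z hzM hz, LM_le hzM, i ^ n, hin,
      fun e => hn.ne_one (by rw [e, orderOf_one]),
      ⟨1, by rw [pow_one, pow_orderOf_eq_one]⟩, conj_pow_of_inverts hi.2 n⟩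
  obtain ⟨M', X, b, c', h1, h2, h3, h4, h5, h6, h7, h8⟩ := PX.exists_fac h hp2 hV
  exact PX.final h hp2 h1 h2 h3 h4 h5 h6 h7 h8

end Cfsg.Agent.Core2
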